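import Mathlib

/-!
# Transfer through fixed cosets, and the Engel condition

`transfer_eq_prod_fixed`: a transfer evaluated at an element of prime power order only sees the
fixed cosets, as soon as the homomorphism kills the conjugates of its proper powers.
`prod_conj_eq_one`: over an abelian group of exponent `p`, an Engel condition of length `p - 1`
kills the product over `p` successive conjugates.
-/

namespace CfsgLib.HallWielandt

open scoped Pointwise

theorem choose_pred_cast {p : ℕ} [Fact p.Prime] : ∀ k, k < p →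
    ((p - 1).choose k : ZMod p) = (-1) ^ k := by
  intro k
  induction k with
  | zero => simp
  | succ k ih =>
    intro hk
    have hp : p.Prime := Fact.out
    have h := Nat.choose_succ_succ' (p - 1) k
    rw [Nat.sub_add_cancel hp.one_le] at h
    have h0 : ((p.choose (k + 1) : ℕ) : ZMod p) = 0 :=
      (ZMod.natCast_eq_zero_iff _ _).2 (hp.dvd_choose_self (by omega) hk)
    rw [h, Nat.cast_add, ih (by omega)] at h0
    rw [eq_neg_of_add_eq_zero_right h0, pow_succ]
    ring

theorem fwdDiff_pred_eq_sum {E : Type*} [AddCommGroup E] {p : ℕ} [Fact p.Prime]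
    (hE : ∀ a : E, p • a = 0) (a : ℕ → E) :
    (fwdDiff (1 : ℕ))^[p - 1] a 0 = ∑ k ∈ Finset.range p, a k := by
  have hp : p.Prime := Fact.out
  rw [fwdDiff_iter_eq_sum_shift, Nat.sub_add_cancel hp.one_le]
  refine Finset.sum_congr rfl fun k hk => ?_
  rw [Finset.mem_range] at hk
  have h : (((-1 : ℤ) ^ (p - 1 - k) * ((p - 1).choose k : ℤ) : ℤ) : ZMod p) = ((1 : ℤ) : ZMod p) := by
    push_cast
    rw [choose_pred_cast k hk, ← pow_add, Nat.sub_add_cancel (by omega),
      ZMod.pow_card_sub_one_eq_one (neg_ne_zero.2 one_ne_zero)]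
  rw [ZMod.intCast_eq_intCast_iff_dvd_sub] at h
  obtain ⟨t, ht⟩ := h
  have e : ((-1 : ℤ) ^ (p - 1 - k) * ((p - 1).choose k : ℤ)) = 1 + (p : ℤ) * (-t) := by linarith
  simp only [smul_eq_mul, mul_one, zero_add]
  rw [e, add_smul, one_smul, mul_smul, natCast_zsmul, hE, add_zero]

variable {G : Type*} [Group G] {A : Type*} [CommGroup A]

/-- the product over successive conjugates vanishes under the Engel condition -/
theorem prod_conj_eq_one {p : ℕ} [Fact p.Prime] (hA : ∀ a : A, a ^ p = 1) {W : Subgroup G}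
    (ψ : W →* A) {z v : G} (hz : ∀ w ∈ W, z⁻¹ * w * z ∈ W) (hv : v ∈ W)
    (hE : (fun y : G => y⁻¹ * z⁻¹ * y * z)^[p - 1] v = 1) (F : G → A)
    (hF : ∀ w (hw : w ∈ W), F w = ψ ⟨w, hw⟩) :
    ∏ i ∈ Finset.range p, F ((z ^ i)⁻¹ * v * z ^ i) = 1 := by
  set f : G → G := fun y => y⁻¹ * z⁻¹ * y * z with hf
  have hpow : ∀ i : ℕ, ∀ w ∈ W, (z ^ i)⁻¹ * w * z ^ i ∈ W := by
    intro i
    induction i with
    | zero => intro w hw; simpa using hw
    | succ i ih =>
      intro w hw
      have := hz _ (ih w hw)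
      simpa [pow_succ, mul_assoc] using this
  have hfW : ∀ w ∈ W, f w ∈ W := fun w hw => by
    have := W.mul_mem (W.inv_mem hw) (hz w hw)
    simpa [hf, mul_assoc] using this
  let b : G → ℕ → Additive A := fun w i => Additive.ofMul (F ((z ^ i)⁻¹ * w * z ^ i))
  have hstep : ∀ w ∈ W, fwdDiff (1 : ℕ) (b w) = b (f w) := by
    intro w hw
    funext i
    change Additive.ofMul (F ((z ^ (i + 1))⁻¹ * w * z ^ (i + 1))) - _ = _
    rw [sub_eq_iff_eq_add]
    change F _ = F ((z ^ i)⁻¹ * f w * z ^ i) * F ((z ^ i)⁻¹ * w * z ^ i)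
    rw [mul_comm, hF _ (hpow _ w hw), hF _ (hpow i _ (hfW w hw)), hF _ (hpow i w hw), ← map_mul]
    congr 1
    refine Subtype.ext ?_
    change _ = (z ^ i)⁻¹ * w * z ^ i * ((z ^ i)⁻¹ * f w * z ^ i)
    simp only [hf, pow_succ']
    group
  have hiter : ∀ k, f^[k] v ∈ W ∧ (fwdDiff (1 : ℕ))^[k] (b v) = b (f^[k] v) := by
    intro k
    induction k with
    | zero => exact ⟨hv, rfl⟩
    | succ k ih =>
      rw [Function.iterate_succ_apply', Function.iterate_succ_apply', ih.2]
      exact ⟨hfW _ ih.1, hstep _ ih.1⟩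
  have h1 := fwdDiff_pred_eq_sum (p := p)
    (fun a : Additive A => show Additive.ofMul (a.toMul ^ p) = 0 by rw [hA]; rfl) (b v)
  rw [(hiter _).2, hE] at h1
  have h0 : b (1 : G) 0 = 0 := by
    change Additive.ofMul (F ((z ^ 0)⁻¹ * 1 * z ^ 0)) = 0
    rw [show (z ^ 0)⁻¹ * 1 * z ^ 0 = (1 : G) by simp, hF 1 W.one_mem]
    exact congrArg Additive.ofMul (map_one ψ)
  rw [h0] at h1
  exact h1.symm

/-- The transfer at an element of prime power order, when proper powers contribute nothing. -/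
theorem transfer_eq_prod_fixed [Finite G] {p : ℕ} [Fact p.Prime] {H : Subgroup G} (φ : H →* A)
    {x : G} (hx : ∃ n, orderOf x = p ^ n) (Fc : G → A) (hFc : ∀ g (hg : g ∈ H), Fc g = φ ⟨g, hg⟩)
    (hkill : ∀ (t : G) (k : ℕ), p ∣ k → k ∣ orderOf x → ∀ hy : t⁻¹ * x ^ k * t ∈ H,
      φ ⟨_, hy⟩ = 1)
    [Fintype (G ⧸ H)] [DecidableEq (G ⧸ H)] :
    MonoidHom.transfer φ x =
      ∏ c ∈ Finset.univ.filter (fun c : G ⧸ H => x • c = c), Fc (c.out⁻¹ * x * c.out) := by
  classical
  have hp : p.Prime := Fact.out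
  have : Fintype (Quotient (MulAction.orbitRel (Subgroup.zpowers x) (G ⧸ H))) := Fintype.ofFinite _
  rw [MonoidHom.transfer_eq_prod_quotient_orbitRel_zpowers_quot]
  let orb : G ⧸ H → Quotient (MulAction.orbitRel (Subgroup.zpowers x) (G ⧸ H)) := Quotient.mk''
  have hper : ∀ c : G ⧸ H, x • c = c ↔ Function.minimalPeriod (x • ·) c = 1 := fun c =>
    (Function.minimalPeriod_eq_one_iff_isFixedPt (f := (x • ·)) (x := c)).symm
  have hout : ∀ c, x • c = c → (orb c).out = c := by
    intro c hc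
    obtain ⟨⟨g, hg⟩, hg'⟩ := MulAction.orbitRel_apply.1 (Quotient.exact' (Quotient.out_eq' (orb c)))
    rw [← hg']
    obtain ⟨i, rfl⟩ := Subgroup.mem_zpowers_iff.1 hg
    exact smul_eq_self_of_mem_zpowers (show x ^ i ∈ Subgroup.zpowers x from ⟨i, rfl⟩) hc
  rw [← Finset.prod_filter_of_ne
    (p := fun q : Quotient (MulAction.orbitRel (Subgroup.zpowers x) (G ⧸ H)) =>
      Function.minimalPeriod (x • ·) q.out = 1)]
  · refine Finset.prod_bij' (fun q _ => q.out) (fun c _ => orb c) ?_ ?_ ?_ ?_ ?_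
    · intro q hq
      simp only [Finset.mem_filter, Finset.mem_univ, true_and] at hq ⊢
      exact (hper _).2 hq
    · intro c hc
      simp only [Finset.mem_filter, Finset.mem_univ, true_and] at hc ⊢
      rw [hout c hc]
      exact (hper c).1 hc
    · intro q _
      exact Quotient.out_eq' q
    · intro c hc
      exact hout c (Finset.mem_filter.1 hc).2
    · intro q hq
      have h1 : Function.minimalPeriod (x • ·) q.out = 1 := (Finset.mem_filter.1 hq).2
      have key : ∀ k : ℕ, k = 1 → ∀ h : q.out.out⁻¹ * x ^ k * q.out.out ∈ H,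
          φ ⟨_, h⟩ = Fc (q.out.out⁻¹ * x * q.out.out) := by
        rintro k rfl h
        have h' : q.out.out⁻¹ * x * q.out.out ∈ H := by simpa using h
        rw [hFc _ h']
        congr 1
        exact Subtype.ext (by simp)
      exact key _ h1 _
  · intro q _ hq
    by_contra hne
    apply hq
    have hd : Function.minimalPeriod (x • ·) q.out ∣ orderOf x := by
      refine Function.IsPeriodicPt.minimalPeriod_dvd ?_
      change (fun y : G ⧸ H => x • y)^[orderOf x] q.out = q.out
      rw [smul_iterate]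
      change x ^ orderOf x • q.out = q.out
      rw [pow_orderOf_eq_one, one_smul]
    refine hkill _ _ ?_ hd _
    obtain ⟨n, hn⟩ := hx
    rw [hn, Nat.dvd_prime_pow hp] at hd
    obtain ⟨j, -, hj⟩ := hd
    rw [hj] at hne ⊢
    exact dvd_pow_self p (fun e => hne (by rw [e, pow_zero]))

/-- In a `p`-group some element of `Q` outside `W` normalises `W` and has its `p`th power in it. -/
theorem exists_step [Finite G] {p : ℕ} [Fact p.Prime] {P W Q : Subgroup G} (hP : IsPGroup p P)
    (hW : W ≤ P) (hQ : Q ≤ P) (hPQ : P ≤ Subgroup.normalizer (Q : Set G)) (hQW : ¬ Q ≤ W) :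
    ∃ z ∈ Q, z ∉ W ∧ z ∈ Subgroup.normalizer (W : Set G) ∧ z ^ p ∈ W := by
  let K := W ⊔ Q
  have hK : IsPGroup p K := hP.to_le (sup_le hW hQ)
  have hnil : Group.IsNilpotent K := hK.isNilpotent
  have hlt : W.subgroupOf K < ⊤ := lt_top_iff_ne_top.2 fun e => hQW fun q hq => by
    have : (⟨q, le_sup_right (a := W) hq⟩ : K) ∈ W.subgroupOf K := e ▸ Subgroup.mem_top _
    exact this
  obtain ⟨n, hn, hnW⟩ := SetLike.exists_of_lt (Group.normalizerCondition_of_isNilpotent _ hlt)
  obtain ⟨a, ha, q, hq, hnq⟩ : (n : G) ∈ (W : Set G) * (Q : Set G) := by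
    rw [← Subgroup.coe_mul_of_left_le_normalizer_right W Q (hW.trans hPQ)]
    exact n.2
  have hnN : (n : G) ∈ Subgroup.normalizer (W : Set G) := by
    rw [Subgroup.mem_normalizer_iff]
    intro w
    constructor
    · intro hw
      exact (Subgroup.mem_normalizer_iff.1 hn ⟨w, le_sup_left (b := Q) hw⟩).1 hw
    · intro hw
      have hwK : w ∈ K := by
        have := K.mul_mem (K.mul_mem (K.inv_mem n.2) (le_sup_left (b := Q) hw)) n.2
        simpa [mul_assoc] using this
      exact (Subgroup.mem_normalizer_iff.1 hn ⟨w, hwK⟩).2 hw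
  have hqN : q ∈ Subgroup.normalizer (W : Set G) := by
    have := mul_mem (inv_mem (Subgroup.le_normalizer ha)) hnN
    rwa [← hnq, inv_mul_cancel_left] at this
  have hqW : q ∉ W := fun h => hnW (by
    change (n : G) ∈ W
    rw [← hnq]; exact W.mul_mem ha h)
  obtain ⟨k, hk⟩ := hP ⟨q, hQ hq⟩
  have hk' : q ^ p ^ k = 1 := congrArg Subtype.val hk
  clear hk hnq hn hnW hnN
  induction k generalizing q with
  | zero => rw [pow_zero, pow_one] at hk'; exact absurd (hk' ▸ W.one_mem) hqW
  | succ k ih =>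
    by_cases hqp : q ^ p ∈ W
    · exact ⟨q, hq, hqW, hqN, hqp⟩
    · refine ih (q ^ p) (Q.pow_mem hq p) (pow_mem hqN p) hqp ?_
      rw [← pow_mul, ← pow_succ']; exact hk'

end CfsgLib.HallWielandt
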